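import Groth.Agent.UCTest.Ring
import Groth.Agent.ASp.ValClosed
/-!
Universal closedness is tested by affine spaces over a chart of the target.
-/

set_option autoImplicit false
set_option backward.isDefEq.respectTransparency false
set_option backward.isDefEq.respectTransparency.types false

universe u

open CategoryTheory CategoryTheory.Limits AlgebraicGeometry Opposite

namespace Groth.Agent.UCTest

open _root_.AlgSp Groth.Agent.ASp

variable {S : Scheme.{u}}

/-- Closedness of the image over an affine scheme mapping to an affine open of the chart. -/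
theorem isClosed_image_of_test {X Y : Sp S} (hX : IsAlgSpace X) (hY : IsAlgSpace Y) {f : X ⟶ Y}
    (hqc : IsQuasiCompactMor f) {V V₀ T : Over S} [IsAffine V₀.left] [IsAffine T.left] {ι : V₀ ⟶ V}
    [IsOpenImmersion ι.left] {p : (yon S).obj V ⟶ Y} (m : T ⟶ V₀)
    (H : ∀ (n : ℕ) (P : Sp S) (fst : P ⟶ X)
      (snd : P ⟶ (yon S).obj (Over.mk ((𝔸(ULift.{u} (Fin n); V.left) ↘ V.left) ≫ V.hom))),
      IsPullback fst snd f ((yon S).map (Over.homMk (𝔸(ULift.{u} (Fin n); V.left) ↘ V.left)) ≫ p) →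
        IsClosedMap (Points.map snd))
    {P : Sp S} {π₁ : P ⟶ X} {π₂ : P ⟶ (yon S).obj T}
    (sq : IsPullback π₁ π₂ f ((yon S).map (m ≫ ι) ≫ p)) {C : Set (Points P)} (hC : IsClosed C) :
    IsClosed (Points.schemeHomeo T ⁻¹' (Points.map π₂ '' C)) := by
  obtain ⟨P₀, f₀, q₀, sq₀⟩ : ∃ (P₀ : Sp S) (f₀ : P₀ ⟶ X) (q₀ : P₀ ⟶ (yon S).obj V₀),
      IsPullback f₀ q₀ f ((yon S).map ι ≫ p) := ⟨_, _, _, IsPullback.of_hasPullback _ _⟩
  have hP₀ : IsAlgSpace P₀ := isAlgSpace_of_isPullback hY.diag hX (IsAlgSpace.yon_obj V₀) sq₀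
  haveI := compactSpace_of_isQuasiCompactSp (hqc (IsAlgSpace.yon_obj V₀) isQuasiCompactSp_yon _ _ _ sq₀)
  obtain ⟨U, π, hU, hπe, hπs⟩ := exists_affine_chart hP₀
  haveI : IsAffine U.left := hU
  obtain ⟨c, hc⟩ := (yon S).map_surjective (π ≫ q₀)
  let l : P ⟶ P₀ := sq₀.lift π₁ (π₂ ≫ (yon S).map m) (by rw [sq.w, Functor.map_comp, Category.assoc, Category.assoc])
  have sql : IsPullback l π₂ q₀ ((yon S).map m) := by
    refine IsPullback.of_right ?_ (sq₀.lift_snd _ _ _) sq₀
    rw [sq₀.lift_fst, ← Functor.map_comp_assoc]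
    exact sq
  let a : pullback c m ⟶ U := pullback.fst c m
  let d : pullback c m ⟶ T := pullback.snd c m
  have sqT : IsPullback a d c m := IsPullback.of_hasPullback _ _
  obtain ⟨π', hπ'1, hπ'2⟩ : ∃ π' : (yon S).obj (pullback c m) ⟶ P,
      π' ≫ l = (yon S).map a ≫ π ∧ π' ≫ π₂ = (yon S).map d :=
    ⟨sql.lift ((yon S).map a ≫ π) ((yon S).map d) (by
      rw [Category.assoc, ← hc, ← Functor.map_comp, ← Functor.map_comp, sqT.w]), sql.lift_fst _ _ _, sql.lift_snd _ _ _⟩
  have sqπ : IsPullback ((yon S).map a) π' π l :=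
    IsPullback.of_bot (by rw [hπ'2, ← hc]; exact isPullback_yon_map sqT) hπ'1.symm sql
  have hπ's : RepWith @Surjective π' := repWith_of_isPullback sqπ hπs
  haveI : IsAffine (pullback c m).left := .of_isPullback (isPullback_left sqT)
  rw [← isOpen_compl_iff, isOpen_iff_forall_mem_open]
  intro t ht
  have ht' : t ∉ d.left '' (Points.ofPt π' ⁻¹' C) := by
    rintro ⟨w, hw, rfl⟩
    refine ht ⟨_, hw, ?_⟩
    rw [Points.map_ofPt, hπ'2, ofPt_yon_eq]
  obtain ⟨n, φ, hφ, hn⟩ := exists_coords (isPullback_left sqT) (hC.preimage (Points.continuous_ofPt π')) ht'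
  let A : Over S := Over.mk ((𝔸(ULift.{u} (Fin n); V₀.left) ↘ V₀.left) ≫ V₀.hom)
  let o₀ : A ⟶ V₀ := Over.homMk (𝔸(ULift.{u} (Fin n); V₀.left) ↘ V₀.left) rfl
  let AV : Over S := Over.mk ((𝔸(ULift.{u} (Fin n); V.left) ↘ V.left) ≫ V.hom)
  let o : AV ⟶ V := Over.homMk (𝔸(ULift.{u} (Fin n); V.left) ↘ V.left) rfl
  let j : A ⟶ AV := Over.homMk (AffineSpace.map (ULift.{u} (Fin n)) ι.left) (by
    show AffineSpace.map _ ι.left ≫ _ ≫ V.hom = _ ≫ V₀.hom
    rw [AffineSpace.map_over_assoc, Over.w ι])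
  have hj : j ≫ o = o₀ ≫ ι := Over.OverMorphism.ext (AffineSpace.map_over _)
  let φ' : T ⟶ A := Over.homMk φ (by
    show φ ≫ _ ≫ V₀.hom = T.hom
    rw [reassoc_of% hφ, Over.w m])
  have hφ' : φ' ≫ o₀ = m := Over.OverMorphism.ext hφ
  obtain ⟨PV, g₁, g₂, sqV⟩ : ∃ (PV : Sp S) (g₁ : PV ⟶ X) (g₂ : PV ⟶ (yon S).obj AV),
      IsPullback g₁ g₂ f ((yon S).map o ≫ p) := ⟨_, _, _, IsPullback.of_hasPullback _ _⟩
  have hclosed := H n PV g₁ g₂ sqV
  obtain ⟨PA, k, k₂, sqk⟩ : ∃ (PA : Sp S) (k : PA ⟶ P₀) (k₂ : PA ⟶ (yon S).obj A),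
      IsPullback k k₂ q₀ ((yon S).map o₀) := ⟨_, _, _, IsPullback.of_hasPullback _ _⟩
  have sqA : IsPullback (k ≫ f₀) k₂ f ((yon S).map j ≫ (yon S).map o ≫ p) := by
    rw [← Functor.map_comp_assoc, hj, Functor.map_comp_assoc]
    exact sqk.paste_horiz sq₀
  let kV : PA ⟶ PV := sqV.lift (k ≫ f₀) (k₂ ≫ (yon S).map j) (by rw [sqA.w, Category.assoc])
  have sqAV : IsPullback kV k₂ g₂ ((yon S).map j) := by
    refine IsPullback.of_right ?_ (sqV.lift_snd _ _ _) sqV
    rw [sqV.lift_fst]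
    exact sqA
  let lam : P ⟶ PA := sqk.lift l (π₂ ≫ (yon S).map φ') (by rw [sql.w, Category.assoc, ← Functor.map_comp, hφ'])
  let a' : pullback c o₀ ⟶ U := pullback.fst c o₀
  let d' : pullback c o₀ ⟶ A := pullback.snd c o₀
  have sqU : IsPullback a' d' c o₀ := IsPullback.of_hasPullback _ _
  obtain ⟨πA, hπA1, hπA2⟩ : ∃ πA : (yon S).obj (pullback c o₀) ⟶ PA,
      πA ≫ k = (yon S).map a' ≫ π ∧ πA ≫ k₂ = (yon S).map d' :=
    ⟨sqk.lift ((yon S).map a' ≫ π) ((yon S).map d') (by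
      rw [Category.assoc, ← hc, ← Functor.map_comp, ← Functor.map_comp, sqU.w]), sqk.lift_fst _ _ _, sqk.lift_snd _ _ _⟩
  have sqπA : IsPullback ((yon S).map a') πA π k :=
    IsPullback.of_bot (by rw [hπA2, ← hc]; exact isPullback_yon_map sqU) hπA1.symm sqk
  haveI : IsAffine A.left := inferInstanceAs (IsAffine 𝔸(ULift.{u} (Fin n); V₀.left))
  haveI : IsAffine (pullback c o₀).left := .of_isPullback (isPullback_left sqU)
  let ψ : pullback c m ⟶ pullback c o₀ := pullback.lift a (d ≫ φ') (by rw [Category.assoc, hφ', sqT.w])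
  have hψa : ψ ≫ a' = a := pullback.lift_fst _ _ _
  have hψd : ψ ≫ d' = d ≫ φ' := pullback.lift_snd _ _ _
  have sqψ : IsPullback ((yon S).map ψ) π' πA lam := by
    refine IsPullback.of_right ?_ ?_ sqπA
    · rw [sqk.lift_fst, ← Functor.map_comp, hψa]; exact sqπ
    · refine sqk.hom_ext ?_ ?_
      · rw [Category.assoc, Category.assoc, hπA1, sqk.lift_fst, ← Functor.map_comp_assoc, hψa, hπ'1]
      · rw [Category.assoc, Category.assoc, hπA2, sqk.lift_snd, ← Functor.map_comp, hψd, Functor.map_comp,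
          reassoc_of% hπ'2]
  have hbad := hn a'.left d'.left ψ.left (congrArg (fun q : pullback c m ⟶ U => q.left) hψa)
    (congrArg (fun q : pullback c m ⟶ A => q.left) hψd)
  let E := Points.schemeHomeo A ⁻¹' (Points.map k₂ '' closure (Points.map lam '' C))
  have hE : IsClosed E := by
    refine IsClosed.preimage (Points.schemeHomeo A).continuous ?_
    have hK := isClosed_closure (s := Points.map lam '' C)
    obtain ⟨C₁, hC₁, hC₁e⟩ : ∃ C₁, IsClosed C₁ ∧ Points.map kV ⁻¹' C₁ = closure (Points.map lam '' C) := by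
      have hopen : RepWith @IsImmersion kV := repWith_of_isPullback sqAV.flip
        (repWith_yon_map (haveI : IsOpenImmersion (AffineSpace.map (ULift.{u} (Fin n)) ι.left) :=
          MorphismProperty.of_isPullback (AffineSpace.isPullback_map (n := ULift.{u} (Fin n)) ι.left).flip ‹IsOpenImmersion ι.left›
          (inferInstanceAs (IsImmersion (AffineSpace.map (ULift.{u} (Fin n)) ι.left)))))
      exact ((isEmbedding_of_immersion (isAlgSpace_of_isPullback hY.diag hX (IsAlgSpace.yon_obj AV) sqV) hopen).1.isClosed_iff).1 hK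
    rw [← hC₁e, ← preimage_image_of_isPullback sqAV]
    exact (hclosed _ hC₁).preimage (Points.continuous_map _)
  have htE : φ t ∉ E := by
    rintro ⟨x, hx, hxt⟩
    have hπAs : RepWith @Surjective πA := repWith_of_isPullback sqπA hπs
    obtain ⟨u, rfl⟩ := surjective_ofPt hπAs x
    have hou : IsOpenMap (Points.ofPt πA) := by
      rw [ofPt_comp_eq_map]
      exact (isOpenMap_map_of_etale (repWith_of_isPullback sqπA hπe)).comp (Points.schemeHomeo _).isOpenMap
    have hu : u ∈ closure (ψ.left '' (Points.ofPt π' ⁻¹' C)) := by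
      refine closure_mono ?_ (hou.preimage_closure_subset_closure_preimage hx)
      rintro v ⟨z, hz, hzv⟩
      obtain ⟨w, hw1, hw2⟩ := points_exists_of_isPullback sqψ (Points.schemeHomeo _ v) z
        (hzv.trans (congrFun (ofPt_comp_eq_map πA) v)).symm
      obtain ⟨w, rfl⟩ := (Points.schemeHomeo _).surjective w
      refine ⟨w, ?_, ?_⟩
      · show Points.ofPt π' w ∈ C
        rw [congrFun (ofPt_comp_eq_map π') w]
        show Points.map π' (Points.schemeHomeo _ w) ∈ C
        rw [hw2]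
        exact hz
      · rw [Points.map_yon_map_apply] at hw1
        exact (Points.schemeHomeo _).injective hw1
    refine hbad ⟨u, hu, (Points.schemeHomeo A).injective ?_⟩
    have h9 := hxt
    rw [Points.map_ofPt, hπA2, ofPt_yon_eq] at h9
    exact h9
  refine ⟨φ ⁻¹' Eᶜ, fun t' ht'E => ?_, hE.isOpen_compl.preimage φ.continuous, htE⟩
  rintro ⟨z, hz, hzt⟩
  refine ht'E ⟨Points.map lam z, subset_closure ⟨z, hz, rfl⟩, ?_⟩
  rw [← Points.map_comp, sqk.lift_snd, Points.map_comp, hzt, Points.map_yon_map_apply]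
  rfl

end Groth.Agent.UCTest
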