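import Mathlib
/-!
Detecting that a point is outside the image of a closed set by finitely many coordinates.
-/

set_option autoImplicit false
set_option backward.isDefEq.respectTransparency false
set_option backward.isDefEq.respectTransparency.types false

universe u

open CategoryTheory CategoryTheory.Limits AlgebraicGeometry

namespace Groth.Agent.UCTest

/-- The functions vanishing at a point. -/
theorem exists_prime (X : Scheme.{u}) [IsAffine X] (x : X) :
    ∃ q : Ideal Γ(X, ⊤), q.IsPrime ∧ ∀ g, g ∈ q ↔ x ∉ X.basicOpen g := by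
  refine ⟨(X.isoSpec.hom x).asIdeal, (X.isoSpec.hom x).2, fun g => ?_⟩
  rw [← Scheme.toSpecΓ_preimage_basicOpen]
  exact not_not.symm

theorem exists_point {X : Scheme.{u}} [IsAffine X] (q : Ideal Γ(X, ⊤)) [q.IsPrime] :
    ∃ x : X, ∀ g, g ∈ q ↔ x ∉ X.basicOpen g := by
  refine ⟨X.isoSpec.inv ⟨q, ‹_›⟩, fun g => ?_⟩
  rw [← Scheme.toSpecΓ_preimage_basicOpen]
  show g ∈ q ↔ X.toSpecΓ (X.isoSpec.inv ⟨q, ‹_›⟩) ∉ PrimeSpectrum.basicOpen g
  rw [← Scheme.isoSpec_hom, ← Scheme.Hom.comp_apply, Iso.inv_hom_id]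
  exact not_not.symm

/-- A point outside the image of a closed set of a fibre product of affine schemes stays outside after mapping
to a suitable affine space. -/
theorem exists_coords {U V T UT : Scheme.{u}} [IsAffine U] [IsAffine V] [IsAffine T] {c : U ⟶ V} {m : T ⟶ V}
    {a : UT ⟶ U} {d : UT ⟶ T} (sq : IsPullback a d c m) {C : Set UT} (hC : IsClosed C) {t : T}
    (ht : t ∉ d '' C) :
    ∃ (n : ℕ) (φ : T ⟶ 𝔸(ULift.{u} (Fin n); V)), φ ≫ (𝔸(ULift.{u} (Fin n); V) ↘ V) = m ∧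
      ∀ {Un : Scheme.{u}} [IsAffine Un] (an : Un ⟶ U) (dn : Un ⟶ 𝔸(ULift.{u} (Fin n); V)) (ψ : UT ⟶ Un),
        ψ ≫ an = a → ψ ≫ dn = d ≫ φ → φ t ∉ dn '' closure (ψ '' C) := by
  classical
  haveI : IsAffine UT := .of_isPullback sq
  let α := a.appTop.hom
  let δ := d.appTop.hom
  let p : Ideal Γ(T, ⊤) := (exists_prime T t).choose
  obtain ⟨hp, hpmem⟩ := (exists_prime T t).choose_spec
  haveI := hp
  -- functions vanishing on `C`
  let I : Ideal Γ(UT, ⊤) :=
    { carrier := {g | ∀ x ∈ C, x ∉ UT.basicOpen g}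
      zero_mem' := fun x _ h => by rw [Scheme.basicOpen_zero] at h; exact h
      add_mem' := fun {g g'} hg hg' x hx => by
        obtain ⟨q, -, hq⟩ := exists_prime UT x
        exact (hq _).1 (q.add_mem ((hq _).2 (hg x hx)) ((hq _).2 (hg' x hx)))
      smul_mem' := fun g g' hg' x hx => by
        obtain ⟨q, -, hq⟩ := exists_prime UT x
        exact (hq _).1 (q.mul_mem_left g ((hq _).2 (hg' x hx))) }
  have hI : ∀ x, x ∈ C ↔ ∀ g ∈ I, x ∉ UT.basicOpen g := by
    refine fun x => ⟨fun hx g hg => hg x hx, fun h => ?_⟩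
    by_contra hxC
    obtain ⟨_, ⟨_, ⟨g, rfl⟩, rfl⟩, hxg, hgC⟩ := (isBasis_basicOpen UT).exists_subset_of_mem_open hxC hC.isOpen_compl
    exact h g (fun z hz hzg => hgC hzg hz) hxg
  -- the fibre over `t` misses `C`
  obtain ⟨s, hs, hsI⟩ : ∃ s : Γ(T, ⊤), s ∉ p ∧ δ s ∈ I ⊔ p.map δ := by
    by_contra h
    push_neg at h
    obtain ⟨q, hq, hle, hdisj⟩ := Ideal.exists_le_prime_disjoint (I ⊔ p.map δ) (p.primeCompl.map δ)
      (Set.disjoint_left.2 fun y hy hy' => by
        obtain ⟨s, hs, rfl⟩ := hy'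
        exact h s hs hy)
    haveI := hq
    obtain ⟨x, hx⟩ := exists_point q
    refine ht ⟨x, (hI x).2 fun g hg => (hx g).1 (hle (Ideal.mem_sup_left hg)), ?_⟩
    apply T.isoSpec.hom.homeomorph.injective
    refine PrimeSpectrum.ext (Ideal.ext fun g => ?_)
    have e1 : ∀ z : T, g ∈ (T.isoSpec.hom z).asIdeal ↔ z ∉ T.basicOpen g := fun z => by
      rw [← Scheme.toSpecΓ_preimage_basicOpen]; exact not_not.symm
    show g ∈ (T.isoSpec.hom (d x)).asIdeal ↔ g ∈ (T.isoSpec.hom t).asIdeal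
    rw [e1, e1, ← hpmem]
    constructor
    · intro h1
      by_contra h2
      refine h1 ?_
      have h3 : x ∈ UT.basicOpen (δ g) := by
        by_contra h4
        exact Set.disjoint_left.1 hdisj ((hx _).2 h4) ⟨g, h2, rfl⟩
      rw [← Scheme.preimage_basicOpen_top] at h3
      exact h3
    · intro h1 h2
      have h3 : x ∈ UT.basicOpen (δ g) := by
        rw [← Scheme.preimage_basicOpen_top]
        exact h2
      exact (hx _).1 (hle (Ideal.mem_sup_right (Ideal.mem_map_of_mem δ h1))) h3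
  obtain ⟨i, hi, z, hz, hiz⟩ := Submodule.mem_sup.1 hsI
  -- generation of the fibre product
  have hgen : Subring.closure (Set.range α ∪ Set.range δ) = ⊤ := by
    rw [eq_top_iff]
    rintro y -
    let D := Subring.closure (Set.range α ∪ Set.range δ)
    have hpo := AlgebraicGeometry.isPushout_appTop_of_isPullback sq
    let fA : Γ(U, ⊤) ⟶ CommRingCat.of D := CommRingCat.ofHom (α.codRestrict D fun x => Subring.subset_closure (Or.inl ⟨x, rfl⟩))
    let fD : Γ(T, ⊤) ⟶ CommRingCat.of D := CommRingCat.ofHom (δ.codRestrict D fun x => Subring.subset_closure (Or.inr ⟨x, rfl⟩))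
    obtain ⟨σ, h1, h2⟩ : ∃ σ : Γ(UT, ⊤) ⟶ CommRingCat.of D, a.appTop ≫ σ = fA ∧ d.appTop ≫ σ = fD :=
      ⟨hpo.desc fA fD (CommRingCat.hom_ext (RingHom.ext fun x => Subtype.ext
        (congrArg (fun m => m.hom x) hpo.w))), hpo.inl_desc _ _ _, hpo.inr_desc _ _ _⟩
    have e : σ ≫ CommRingCat.ofHom D.subtype = 𝟙 _ := hpo.hom_ext
      (by rw [reassoc_of% h1]; rfl) (by rw [reassoc_of% h2]; rfl)
    have : (σ.hom y).1 = y := congrArg (fun m => m.hom y) e
    rw [← this]
    exact (σ.hom y).2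
  let L : (p →₀ Γ(U, ⊤)) →+ Γ(UT, ⊤) :=
    Finsupp.liftAddHom fun b => ((AddMonoidHom.mulRight (δ b.1)).comp α.toAddMonoidHom)
  have hL : ∀ (b : p) (r : Γ(U, ⊤)), L (Finsupp.single b r) = α r * δ b.1 := fun b r => by
    simp [L]
  have hNmul : ∀ y w, w ∈ Set.range L → y * w ∈ Set.range L := by
    intro y
    have hy : y ∈ Subring.closure (Set.range α ∪ Set.range δ) := by rw [hgen]; trivial
    induction hy using Subring.closure_induction with
    | mem y hy =>
      rintro _ ⟨f, rfl⟩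
      induction f using Finsupp.induction_linear with
      | zero => exact ⟨0, by simp⟩
      | add f g hf hg =>
        obtain ⟨f', hf'⟩ := hf
        obtain ⟨g', hg'⟩ := hg
        exact ⟨f' + g', by rw [map_add, map_add, mul_add, hf', hg']⟩
      | single b r =>
        rcases hy with ⟨r', rfl⟩ | ⟨b', rfl⟩
        · exact ⟨Finsupp.single b (r' * r), by rw [hL, hL, map_mul, mul_assoc]⟩
        · exact ⟨Finsupp.single ⟨b' * b.1, p.mul_mem_left b' b.2⟩ r, by rw [hL, hL, map_mul]; ring⟩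
    | zero => exact fun w _ => ⟨0, by simp⟩
    | one => intro w hw; rwa [one_mul]
    | add y y' _ _ h h' =>
      intro w hw
      obtain ⟨f, hf⟩ := h w hw
      obtain ⟨g, hg⟩ := h' w hw
      exact ⟨f + g, by rw [map_add, hf, hg, add_mul]⟩
    | neg y _ h =>
      intro w hw
      obtain ⟨f, hf⟩ := h w hw
      exact ⟨-f, by rw [map_neg, hf, neg_mul]⟩
    | mul y y' _ _ h h' => intro w hw; rw [mul_assoc]; exact h _ (h' w hw)
  obtain ⟨f, hf⟩ : z ∈ Set.range L := by
    refine Submodule.span_induction (p := fun x _ => x ∈ Set.range L) ?_ ⟨0, by simp⟩ ?_ (fun r x _ hx => hNmul r x hx) hz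
    · rintro _ ⟨b, hb, rfl⟩
      exact ⟨Finsupp.single ⟨b, hb⟩ 1, by rw [hL, map_one, one_mul]⟩
    · rintro _ _ _ _ ⟨f, rfl⟩ ⟨g, rfl⟩
      exact ⟨f + g, by rw [map_add]⟩
  let k := f.support.card
  let e : f.support ≃ Fin k := f.support.equivFin
  let v : ULift.{u} (Fin (k + 1)) → Γ(T, ⊤) := fun j => Fin.cases s (fun l => ((e.symm l).1 : p).1) j.down
  refine ⟨k + 1, AffineSpace.homOfVector m v, AffineSpace.homOfVector_over _ _, fun {Un} _ an dn ψ hψa hψd => ?_⟩
  rintro ⟨u, hu, hut⟩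
  let X : ULift.{u} (Fin (k + 1)) → Γ(Un, ⊤) := fun j => dn.appTop.hom (AffineSpace.coord V j)
  have hXψ : ∀ j, ψ.appTop.hom (X j) = δ (v j) := fun j => by
    have := congrArg (fun h : UT ⟶ 𝔸(ULift.{u} (Fin (k + 1)); V) => h.appTop.hom (AffineSpace.coord V j)) hψd
    simp only [Scheme.Hom.comp_appTop, CommRingCat.hom_comp, RingHom.comp_apply] at this
    rw [this]
    exact congrArg δ (AffineSpace.homOfVector_appTop_coord m v j)
  have hXu : ∀ j, u ∈ Un.basicOpen (X j) ↔ t ∈ T.basicOpen (v j) := fun j => by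
    rw [← Scheme.preimage_basicOpen_top, show (u ∈ dn ⁻¹ᵁ _) ↔ dn u ∈ 𝔸(ULift.{u} (Fin (k + 1)); V).basicOpen _ from Iff.rfl,
      hut]
    show t ∈ ((AffineSpace.homOfVector m v) ⁻¹ᵁ (𝔸(ULift.{u} (Fin (k + 1)); V).basicOpen (AffineSpace.coord V j))) ↔ _
    rw [Scheme.preimage_basicOpen_top, AffineSpace.homOfVector_appTop_coord]
  let g : Γ(Un, ⊤) := X ⟨0⟩ - ∑ l : Fin k, an.appTop.hom (f (e.symm l).1) * X ⟨l.succ⟩
  have hg : ψ.appTop.hom g = i := by
    have h1 : ∀ r, ψ.appTop.hom (an.appTop.hom r) = α r := fun r => by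
      have := congrArg (fun h : UT ⟶ U => h.appTop.hom r) hψa
      simpa only [Scheme.Hom.comp_appTop, CommRingCat.hom_comp, RingHom.comp_apply] using this
    simp only [g, map_sub, map_sum, map_mul, hXψ, h1]
    have h2 : z = ∑ l : Fin k, α (f (e.symm l).1) * δ (v ⟨l.succ⟩) := by
      rw [← hf]
      conv_lhs => rw [← Finsupp.sum_single f]
      rw [Finsupp.sum, map_sum, ← Finset.sum_coe_sort, ← e.symm.sum_comp]
      refine Finset.sum_congr rfl fun l _ => ?_
      rw [hL]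
      simp [v]
    have h3 : δ (v ⟨0⟩) = i + z := by rw [hiz]; simp [v]
    rw [h3, ← h2, add_sub_cancel_right]
  have hclos : u ∉ Un.basicOpen g := by
    intro hug
    obtain ⟨_, hw, w, hwC, rfl⟩ := mem_closure_iff.1 hu _ (Un.basicOpen g).2 hug
    have h3 : w ∈ ψ ⁻¹ᵁ Un.basicOpen g := hw
    rw [Scheme.preimage_basicOpen_top, hg] at h3
    exact hi w hwC h3
  obtain ⟨q, hq', hq⟩ := exists_prime Un u
  have hX0 : X ⟨0⟩ ∉ q := fun h => by
    refine (hq _).1 h ((hXu _).2 ?_)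
    by_contra h4
    exact hs ((hpmem s).2 (by simpa [v] using h4))
  refine hX0 ?_
  have hsum : (∑ l : Fin k, an.appTop.hom (f (e.symm l).1) * X ⟨l.succ⟩) ∈ q := q.sum_mem fun l _ =>
    q.mul_mem_left _ ((hq _).2 fun h => (hpmem (v ⟨l.succ⟩)).1 (by simp [v]) ((hXu _).1 h))
  simpa [g] using q.add_mem ((hq g).2 hclos) hsum

end Groth.Agent.UCTest
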